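import Mathlib
import Groth.Prelude.Def_W4c5qllcourbesmultMultCrv

/-!
# Modules over R[X]/(X^n): coefficient functionals and duality
-/

universe u v

namespace Groth.Agent.MultCrvLib

open Polynomial MultCrv

variable {R : Type u} [CommRing R] {n : ℕ}

theorem z_pow (j : ℕ) : z R n ^ j = Ideal.Quotient.mk _ ((X : R[X]) ^ j) := (map_pow _ _ _).symm

theorem z_pow_eq_zero {j : ℕ} (h : n ≤ j) : z R n ^ j = 0 := by
  rw [z_pow, Ideal.Quotient.eq_zero_iff_dvd]
  exact pow_dvd_pow _ h

theorem z_pow_smul_eq_zero {M : Type v} [AddCommGroup M] [Module (Rn R n) M] {j : ℕ} (h : n ≤ j) (m : M) :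
    z R n ^ j • m = 0 := by
  rw [z_pow_eq_zero (R := R) h]; exact zero_smul (Rn R n) m

theorem induction_Rn {P : Rn R n → Prop} (hadd : ∀ a b, P a → P b → P (a + b))
    (hmon : ∀ (r : R) (j : ℕ), P (r • z R n ^ j)) (a : Rn R n) : P a := by
  obtain ⟨p, rfl⟩ := Ideal.Quotient.mk_surjective a
  induction p using Polynomial.induction_on' with
  | add p q hp hq => rw [map_add]; exact hadd _ _ hp hq
  | monomial j r =>
    convert hmon r j
    rw [z_pow, ← C_mul_X_pow_eq_monomial, ← Polynomial.smul_eq_C_mul]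
    rfl

/-- k-th coefficient -/
noncomputable def cf (R : Type u) [CommRing R] (n k : ℕ) (hk : k < n) : Rn R n →ₗ[R] R :=
  (Submodule.liftQ ((Ideal.span {(X : R[X]) ^ n}).restrictScalars R) (lcoeff R k) (by
    intro p hp
    rw [Submodule.restrictScalars_mem, Ideal.mem_span_singleton, X_pow_dvd_iff] at hp
    exact hp k hk)) ∘ₗ
  (Submodule.Quotient.restrictScalarsEquiv R (Ideal.span {(X : R[X]) ^ n})).symm.toLinearMap

theorem cf_mk {k : ℕ} (hk : k < n) (p : R[X]) : cf R n k hk (Ideal.Quotient.mk _ p) = p.coeff k := rfl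

theorem cf_ext {a b : Rn R n} (h : ∀ k (hk : k < n), cf R n k hk a = cf R n k hk b) : a = b := by
  obtain ⟨p, rfl⟩ := Ideal.Quotient.mk_surjective a
  obtain ⟨q, rfl⟩ := Ideal.Quotient.mk_surjective b
  rw [Ideal.Quotient.eq, Ideal.mem_span_singleton, X_pow_dvd_iff]
  intro d hd
  rw [coeff_sub, sub_eq_zero]
  exact h d hd

theorem cf_zpow {k : ℕ} (hk : k < n) (j : ℕ) : cf R n k hk (z R n ^ j) = if k = j then 1 else 0 := by
  rw [z_pow, cf_mk, coeff_X_pow]

theorem cf_zpow_mul {k : ℕ} (hk : k < n) (j : ℕ) (a : Rn R n) :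
    cf R n k hk (z R n ^ j * a) = if j ≤ k then cf R n (k - j) (by omega) a else 0 := by
  obtain ⟨p, rfl⟩ := Ideal.Quotient.mk_surjective a
  rw [z_pow, ← map_mul, cf_mk, coeff_X_pow_mul']
  rfl

theorem finite_Rn : Module.Finite R (Rn R n) := (monic_X_pow n).finite_quotient

section

variable {M : Type v} [AddCommGroup M] [Module (Rn R n) M] [Module R M] [IsScalarTower R (Rn R n) M]

theorem finite_scalar [Module.Finite (Rn R n) M] : Module.Finite R M :=
  haveI := finite_Rn (R := R) (n := n)
  Module.Finite.trans (Rn R n) M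

/-- The `Rn`-linear map with last coefficient `ψ`. -/
noncomputable def psi (ψ : M →ₗ[R] R) : M →ₗ[Rn R n] Rn R n where
  toFun m := ∑ k ∈ Finset.range n, ψ (z R n ^ (n - 1 - k) • m) • z R n ^ k
  map_add' x y := by simp only [smul_add, map_add, add_smul, Finset.sum_add_distrib]
  map_smul' a m := by
    induction a using induction_Rn with
    | hadd a b ha hb =>
      simp only [RingHom.id_apply] at ha hb ⊢
      simp only [add_smul, smul_add, map_add, Finset.sum_add_distrib, ha, hb]
    | hmon r j =>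
      simp only [RingHom.id_apply]
      refine cf_ext fun k hk => ?_
      have key : ∀ (m : M) (l : ℕ) (hl : l < n),
          cf R n l hl (∑ i ∈ Finset.range n, ψ (z R n ^ (n - 1 - i) • m) • z R n ^ i) =
            ψ (z R n ^ (n - 1 - l) • m) := by
        intro m l hl
        rw [map_sum, Finset.sum_eq_single l]
        · rw [map_smul, cf_zpow, if_pos rfl, smul_eq_mul, mul_one]
        · intro i _ hi; rw [map_smul, cf_zpow, if_neg (Ne.symm hi), smul_zero]
        · intro h; exact absurd (Finset.mem_range.mpr hl) h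
      rw [key, smul_assoc r (z R n ^ j) m, smul_comm (z R n ^ (n - 1 - k)) r, ψ.map_smul, smul_smul, ← pow_add,
        smul_eq_mul (r • z R n ^ j), smul_mul_assoc, (cf R n k hk).map_smul, cf_zpow_mul]
      split_ifs with hjk
      · rw [key, show n - 1 - (k - j) = n - 1 - k + j by omega]
      · rw [z_pow_smul_eq_zero (by omega) m, map_zero]

theorem cf_psi (ψ : M →ₗ[R] R) (m : M) {l : ℕ} (hl : l < n) :
    cf R n l hl (psi ψ m) = ψ (z R n ^ (n - 1 - l) • m) := by
  show cf R n l hl (∑ i ∈ Finset.range n, ψ (z R n ^ (n - 1 - i) • m) • z R n ^ i) = _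
  rw [map_sum, Finset.sum_eq_single l]
  · rw [map_smul, cf_zpow, if_pos rfl, smul_eq_mul, mul_one]
  · intro i _ hi; rw [map_smul, cf_zpow, if_neg (Ne.symm hi), smul_zero]
  · intro h; exact absurd (Finset.mem_range.mpr hl) h

theorem cf_last_psi (hn : 1 ≤ n) (ψ : M →ₗ[R] R) (m : M) :
    cf R n (n - 1) (by omega) (psi ψ m) = ψ m := by
  rw [cf_psi, Nat.sub_self, pow_zero, one_smul]

/-- last coefficient of a functional -/
noncomputable def tau (hn : 1 ≤ n) (h : M →ₗ[Rn R n] Rn R n) : M →ₗ[R] R :=
  cf R n (n - 1) (by omega) ∘ₗ h.restrictScalars R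

theorem psi_tau (hn : 1 ≤ n) (h : M →ₗ[Rn R n] Rn R n) : psi (tau hn h) = h := by
  refine LinearMap.ext fun m => cf_ext fun k hk => ?_
  rw [cf_psi]
  simp only [tau, LinearMap.comp_apply, LinearMap.restrictScalars_apply, map_smul, smul_eq_mul, cf_zpow_mul]
  rw [if_pos (by omega)]
  congr 2
  omega

theorem tau_psi (hn : 1 ≤ n) (ψ : M →ₗ[R] R) : tau hn (psi (n := n) ψ) = ψ :=
  LinearMap.ext fun m => cf_last_psi hn ψ m

end

section TF

variable [IsDomain R] [IsPrincipalIdealRing R]

theorem free_of_injective {X : Type*} {M : Type*} [AddCommGroup X] [Module R X] [AddCommGroup M] [Module R M]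
    [Module.IsTorsionFree R M] [Module.Finite R X] (f : X →ₗ[R] M) (hf : Function.Injective f) : Module.Free R X :=
  haveI := Function.Injective.moduleIsTorsionFree f hf (fun r x => f.map_smul r x)
  Module.free_of_finite_type_torsion_free'

theorem isTorsionFree_of_free {X : Type*} [AddCommGroup X] [Module R X] [Module.Free R X] :
    Module.IsTorsionFree R X := inferInstance

end TF

section Sub

variable [IsNoetherianRing R] {M : Type v} [AddCommGroup M] [Module (Rn R n) M] [Module R M]
  [IsScalarTower R (Rn R n) M] [Module.Finite R M]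

theorem finite_sub (p : Submodule (Rn R n) M) : Module.Finite R ↥p :=
  Module.Finite.of_injective (p.subtype.restrictScalars R) Subtype.val_injective

theorem finite_subquot (p : Submodule (Rn R n) M) (q : Submodule (Rn R n) ↥p) : Module.Finite R (↥p ⧸ q) :=
  haveI := finite_sub p
  Module.Finite.quotient R q

theorem free_subquot [IsDomain R] [IsPrincipalIdealRing R] [Module.IsTorsionFree R M] (p : Submodule (Rn R n) M)
    (q : Submodule (Rn R n) ↥p) (f : ↥p →ₗ[Rn R n] M) (hk : q = LinearMap.ker f) : Module.Free R (↥p ⧸ q) :=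
  haveI := finite_subquot p q
  free_of_injective ((Submodule.liftQ q f hk.le).restrictScalars R)
    (show Function.Injective (Submodule.liftQ q f hk.le) from
      LinearMap.ker_eq_bot.mp (Submodule.ker_liftQ_eq_bot q f hk.le hk.ge))

end Sub

end Groth.Agent.MultCrvLib
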