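import Groth.Agent.MultCrvLib.Basic

/-!
# Extension of functionals, reflexivity
-/

universe u v

namespace Groth.Agent.MultCrvLib

open MultCrv

variable {R : Type u} [CommRing R] [IsDomain R] [IsPrincipalIdealRing R] {n : ℕ}

theorem exists_extension {M' M M'' : Type v} [AddCommGroup M'] [Module (Rn R n) M']
    [AddCommGroup M] [Module (Rn R n) M] [Module R M] [IsScalarTower R (Rn R n) M]
    [AddCommGroup M''] [Module (Rn R n) M''] [Module R M''] [IsScalarTower R (Rn R n) M'']
    [Module.Finite R M''] [Module.IsTorsionFree R M''] (hn : 1 ≤ n)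
    (f : M' →ₗ[Rn R n] M) (g : M →ₗ[Rn R n] M'') (hf : Function.Injective f) (hg : Function.Surjective g)
    (hfg : LinearMap.range f = LinearMap.ker g) (h : M' →ₗ[Rn R n] Rn R n) :
    ∃ H : M →ₗ[Rn R n] Rn R n, H ∘ₗ f = h := by
  letI : Module R M' := Module.compHom M' (algebraMap R (Rn R n))
  haveI : IsScalarTower R (Rn R n) M' := ⟨fun r a x => by
    show (r • a) • x = algebraMap R (Rn R n) r • a • x
    rw [smul_smul, ← Algebra.smul_def]⟩
  haveI : Module.Free R M'' := Module.free_of_finite_type_torsion_free'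
  obtain ⟨s, hs⟩ := Module.projective_lifting_property (g.restrictScalars R) LinearMap.id hg
  let fR : M' →ₗ[R] M := f.restrictScalars R
  let e : M' ≃ₗ[R] LinearMap.range fR := LinearEquiv.ofInjective fR hf
  let q : M →ₗ[R] LinearMap.range fR := (LinearMap.id - s ∘ₗ g.restrictScalars R).codRestrict _ (fun m => by
    have h2 : m - s (g m) ∈ LinearMap.range f := by
      rw [hfg, LinearMap.mem_ker, map_sub, show g (s (g m)) = g m from LinearMap.congr_fun hs (g m), sub_self]
    exact h2)
  let ψ : M' →ₗ[R] R := tau hn h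
  refine ⟨psi (ψ ∘ₗ e.symm.toLinearMap ∘ₗ q), ?_⟩
  rw [← psi_tau hn h]
  refine LinearMap.ext fun m => cf_ext fun k hk => ?_
  rw [LinearMap.comp_apply, cf_psi, cf_psi, ← map_smul]
  have hq : q (f (z R n ^ (n - 1 - k) • m)) = e (z R n ^ (n - 1 - k) • m) := by
    apply Subtype.ext
    show f _ - s (g (f _)) = f _
    rw [show g (f (z R n ^ (n - 1 - k) • m)) = 0 by
      rw [← LinearMap.mem_ker, ← hfg]; exact ⟨_, rfl⟩, map_zero, sub_zero]
  rw [LinearMap.comp_apply, LinearMap.comp_apply, LinearEquiv.coe_coe, hq, LinearEquiv.symm_apply_apply]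

variable {M : Type v} [AddCommGroup M] [Module (Rn R n) M] [Module R M] [IsScalarTower R (Rn R n) M]

/-- The two duals agree -/
noncomputable def dualEquiv (hn : 1 ≤ n) : (M →ₗ[Rn R n] Rn R n) ≃ₗ[R] (M →ₗ[R] R) where
  toFun := tau hn
  map_add' a b := by ext m; simp [tau]
  map_smul' r a := by ext m; simp [tau]
  invFun := psi
  left_inv := psi_tau hn
  right_inv := tau_psi hn

theorem isReflexive_iff [Module.Finite R M] (hn : 1 ≤ n) :
    Module.IsReflexive (Rn R n) M ↔ Module.IsTorsionFree R M := by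
  let Φ : (Module.Dual (Rn R n) (Module.Dual (Rn R n) M)) ≃ₗ[R] Module.Dual R (Module.Dual R M) :=
    (dualEquiv (M := Module.Dual (Rn R n) M) hn).trans ((dualEquiv (n := n) (M := M) hn).symm.dualMap)
  have hΦ : ∀ m : M, Φ (Module.Dual.eval (Rn R n) M m) = Module.Dual.eval R M m := by
    intro m
    refine LinearMap.ext fun ψ => ?_
    show cf R n (n - 1) (by omega) (psi ψ m) = ψ m
    exact cf_last_psi hn ψ m
  have hiff : Function.Bijective (Module.Dual.eval (Rn R n) M) ↔ Function.Bijective (Module.Dual.eval R M) := by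
    rw [show ⇑(Module.Dual.eval R M) = ⇑Φ ∘ ⇑(Module.Dual.eval (Rn R n) M) from funext fun m => (hΦ m).symm]
    exact (Φ.bijective.of_comp_iff' _).symm
  constructor
  · intro h
    haveI : Module.IsReflexive R M := ⟨hiff.mp h.bijective_dual_eval'⟩
    infer_instance
  · intro h
    haveI : Module.Free R M := Module.free_of_finite_type_torsion_free'
    exact ⟨hiff.mpr (Module.bijective_dual_eval R M)⟩

end Groth.Agent.MultCrvLib
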