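import Groth.Agent.MultCrvLib.Dual

/-!
# Ext over R[X]/(X^n)
-/

universe u

open CategoryTheory Abelian

namespace Groth.Agent.MultCrvLib

open MultCrv

variable {R : Type u} [CommRing R] [IsDomain R] [IsPrincipalIdealRing R] {n : ℕ}

theorem isTorsionFree_pi (r : ℕ) : Module.IsTorsionFree R (Fin r → Rn R n) :=
  haveI : Module.Free R (Rn R n) := (Polynomial.monic_X_pow n).free_quotient
  inferInstance

theorem exists_cover (M : Type u) [AddCommGroup M] [Module (Rn R n) M] [Module.Finite (Rn R n) M] :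
    ∃ (r : ℕ) (φ : (Fin r → Rn R n) →ₗ[Rn R n] M), Function.Surjective φ :=
  Module.Finite.exists_fin' (Rn R n) M

theorem comp_of_projective {M N : Type u} [AddCommGroup M] [Module (Rn R n) M] [AddCommGroup N]
    [Module (Rn R n) N] {r : ℕ} (φ : (Fin r → Rn R n) →ₗ[Rn R n] M) (hφ : Function.Surjective φ) (i : ℕ)
    (x : Ext (ModuleCat.of (Rn R n) M) (ModuleCat.of (Rn R n) N) (1 + i)) :
    ∃ y, (φ.shortExact_shortComplexKer hφ).extClass.comp y rfl = x :=
  Ext.contravariant_sequence_exact₃ (φ.shortExact_shortComplexKer hφ) _ x (by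
    have h : ∀ (j : ℕ) (e : Ext φ.shortComplexKer.X₂ (ModuleCat.of (Rn R n) N) j), 1 ≤ j → e = 0 := by
      intro j e hj
      obtain ⟨j', rfl⟩ : ∃ j', j = j' + 1 := ⟨j - 1, by omega⟩
      exact Ext.eq_zero_of_projective e
    exact h _ _ (by omega)) rfl

theorem ext_self_eq_zero (hn : 1 ≤ n) : ∀ (i : ℕ) (M : Type u) [AddCommGroup M] [Module (Rn R n) M] [Module R M]
    [IsScalarTower R (Rn R n) M] [Module.Finite (Rn R n) M] [Module.IsTorsionFree R M]
    (x : Ext (ModuleCat.of (Rn R n) M) (ModuleCat.of (Rn R n) (Rn R n)) (1 + i)), x = 0 := by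
  intro i
  induction i with
  | zero =>
    intro M _ _ _ _ _ _ x
    obtain ⟨r, φ, hφ⟩ := exists_cover (R := R) (n := n) M
    obtain ⟨y, rfl⟩ := comp_of_projective φ hφ 0 x
    obtain ⟨h, rfl⟩ := (Ext.mk₀_bijective _ _).2 y
    haveI := finite_scalar (R := R) (n := n) (M := M)
    obtain ⟨H, hH⟩ := exists_extension (M' := ↥(LinearMap.ker φ)) hn (LinearMap.ker φ).subtype φ
      Subtype.val_injective hφ (Submodule.range_subtype _) h.hom
    have hh : h = φ.shortComplexKer.f ≫ ModuleCat.ofHom H := ModuleCat.hom_ext hH.symm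
    rw [hh, ← Ext.mk₀_comp_mk₀, ShortComplex.ShortExact.extClass_comp_assoc]
  | succ i ih =>
    intro M _ _ _ _ _ _ x
    obtain ⟨r, φ, hφ⟩ := exists_cover (R := R) (n := n) M
    obtain ⟨y, rfl⟩ := comp_of_projective φ hφ (i + 1) x
    haveI := isTorsionFree_pi (R := R) (n := n) r
    haveI : Module.IsTorsionFree R ↥(LinearMap.ker φ) :=
      Function.Injective.moduleIsTorsionFree _ Subtype.val_injective (fun _ _ => rfl)
    revert y
    rw [add_comm i 1]
    intro y
    rw [ih ↥(LinearMap.ker φ) y, Ext.comp_zero]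

theorem ext_self_eq_zero_of_two_le (hn : 1 ≤ n) (i : ℕ) (M : Type u) [AddCommGroup M] [Module (Rn R n) M]
    [Module.Finite (Rn R n) M]
    (x : Ext (ModuleCat.of (Rn R n) M) (ModuleCat.of (Rn R n) (Rn R n)) (1 + (1 + i))) : x = 0 := by
  obtain ⟨r, φ, hφ⟩ := exists_cover (R := R) (n := n) M
  obtain ⟨y, rfl⟩ := comp_of_projective φ hφ (1 + i) x
  haveI := isTorsionFree_pi (R := R) (n := n) r
  haveI : Module.IsTorsionFree R ↥(LinearMap.ker φ) :=
    Function.Injective.moduleIsTorsionFree _ Subtype.val_injective (fun _ _ => rfl)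
  rw [ext_self_eq_zero hn i ↥(LinearMap.ker φ) y, Ext.comp_zero]

theorem isTorsionFree_of_ext (hn : 1 ≤ n) {M : Type u} [AddCommGroup M] [Module (Rn R n) M] [Module R M]
    [IsScalarTower R (Rn R n) M] [Module.Finite (Rn R n) M]
    (h : Subsingleton (Ext (ModuleCat.of (Rn R n) M) (ModuleCat.of (Rn R n) (Rn R n)) 1)) :
    Module.IsTorsionFree R M := by
  obtain ⟨r, φ, hφ⟩ := exists_cover (R := R) (n := n) M
  haveI := isTorsionFree_pi (R := R) (n := n) r
  haveI := finite_scalar (R := R) (n := n) (M := Fin r → Rn R n)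
  haveI := finite_sub (LinearMap.ker φ)
  haveI : Module.Free R ↥(LinearMap.ker φ) :=
    free_of_injective ((LinearMap.ker φ).subtype.restrictScalars R) Subtype.val_injective
  let b := Module.Free.chooseBasis R ↥(LinearMap.ker φ)
  have hext : ∀ j, ∃ H : (Fin r → Rn R n) →ₗ[R] R, ∀ x : ↥(LinearMap.ker φ), H x = b.coord j x := by
    intro j
    let h0 : ↥(LinearMap.ker φ) →ₗ[Rn R n] Rn R n := psi (b.coord j)
    obtain ⟨x₂, hx₂⟩ := Ext.contravariant_sequence_exact₁ (φ.shortExact_shortComplexKer hφ) _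
      (Ext.mk₀ (ModuleCat.ofHom h0)) (n₁ := 1) rfl (Subsingleton.elim _ _)
    obtain ⟨H, rfl⟩ := (Ext.mk₀_bijective _ _).2 x₂
    rw [Ext.mk₀_comp_mk₀] at hx₂
    refine ⟨tau hn H.hom, fun x => ?_⟩
    have h3 : H.hom (x : Fin r → Rn R n) = h0 x :=
      LinearMap.congr_fun (congrArg ModuleCat.Hom.hom ((Ext.mk₀_bijective _ _).1 hx₂)) x
    show cf R n (n - 1) (by omega) (H.hom (x : Fin r → Rn R n)) = _
    rw [h3, cf_last_psi hn]
  choose H hH using hext
  let ρ : (Fin r → Rn R n) →ₗ[R] ↥(LinearMap.ker φ) := ∑ j, (H j).smulRight (b j)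
  have hρ : ∀ x : ↥(LinearMap.ker φ), ρ (x : Fin r → Rn R n) = x := by
    intro x
    simp only [ρ, LinearMap.sum_apply, LinearMap.smulRight_apply, hH, Module.Basis.coord_apply]
    exact b.sum_repr x
  refine Module.IsTorsionFree.of_smul_eq_zero fun c m hcm => or_iff_not_imp_left.mpr fun hc => ?_
  obtain ⟨f, rfl⟩ := hφ m
  have hmem : c • f ∈ LinearMap.ker φ := by
    rw [LinearMap.mem_ker, LinearMap.map_smul_of_tower, hcm]
  have h1 := congrArg Subtype.val (hρ ⟨c • f, hmem⟩)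
  rw [map_smul, Submodule.coe_smul_of_tower] at h1
  rw [← smul_right_injective _ hc h1]
  exact LinearMap.mem_ker.mp (ρ f).2

theorem zpow_smul_ext_eq_zero (hn : 1 ≤ n) {M N : Type u} [AddCommGroup M] [Module (Rn R n) M] [Module R M]
    [IsScalarTower R (Rn R n) M] [Module.Finite (Rn R n) M] [Module.IsTorsionFree R M]
    [AddCommGroup N] [Module (Rn R n) N] (i : ℕ)
    (x : Ext (ModuleCat.of (Rn R n) M) (ModuleCat.of (Rn R n) N) (i + 1)) : z R n ^ (n - 1) • x = 0 := by
  haveI := finite_scalar (R := R) (n := n) (M := M)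
  let W := filt2 R n M (n - 1)
  let g0 : M →ₗ[Rn R n] M := z R n ^ (n - 1) • LinearMap.id
  have hW : W = LinearMap.ker g0 := by ext u; exact Iff.rfl
  haveI : Module.Finite R (M ⧸ W) := Module.Finite.quotient R W
  haveI : Module.Free R (M ⧸ W) := free_of_injective ((Submodule.liftQ W g0 hW.le).restrictScalars R)
    (show Function.Injective (Submodule.liftQ W g0 hW.le) from
      LinearMap.ker_eq_bot.mp (Submodule.ker_liftQ_eq_bot W g0 hW.le hW.ge))
  let b := Module.Free.chooseBasis R (M ⧸ W)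
  let c := fun j => b.coord j ∘ₗ W.mkQ.restrictScalars R
  have hsurj : ∀ j, ∃ v : M, W.mkQ v = b j := fun j => Submodule.mkQ_surjective _ _
  choose v hv using hsurj
  let α : M →ₗ[Rn R n] (Module.Free.ChooseBasisIndex R (M ⧸ W) → Rn R n) := LinearMap.pi fun j => psi (c j)
  let β := Fintype.linearCombination (Rn R n) v
  have hαj : ∀ j m, psi (c j) m = c j m • z R n ^ (n - 1) := by
    intro j m
    refine cf_ext fun k hk => ?_
    rw [cf_psi, (cf R n k hk).map_smul, cf_zpow]
    split_ifs with hkn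
    · subst hkn; rw [Nat.sub_self, pow_zero, one_smul, smul_eq_mul, mul_one]
    · rw [smul_zero]
      show b.coord j (W.mkQ _) = 0
      rw [show W.mkQ (z R n ^ (n - 1 - k) • m) = 0 from (Submodule.Quotient.mk_eq_zero W).mpr (by
        rw [mem_filt2', smul_smul, ← pow_add]
        exact z_pow_smul_eq_zero (by omega) m), map_zero]
  have hαβ : β ∘ₗ α = z R n ^ (n - 1) • LinearMap.id := by
    refine LinearMap.ext fun m => ?_
    show β (α m) = z R n ^ (n - 1) • m
    rw [Fintype.linearCombination_apply]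
    have h1 : W.mkQ (∑ j, c j m • v j) = W.mkQ m := by
      rw [map_sum]
      conv_lhs => arg 2; intro j; rw [LinearMap.map_smul_of_tower, hv]
      exact b.sum_repr (W.mkQ m)
    have h2 : z R n ^ (n - 1) • ((∑ j, c j m • v j) - m) = 0 :=
      mem_filt2'.mp ((Submodule.Quotient.eq W).mp h1)
    rw [smul_sub, sub_eq_zero, Finset.smul_sum] at h2
    refine Eq.trans (Finset.sum_congr rfl fun j _ => ?_) h2
    show psi (c j) m • v j = _
    rw [hαj, smul_assoc, smul_comm]
  have key : z R n ^ (n - 1) • x = (Ext.mk₀ (ModuleCat.ofHom α)).comp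
      ((Ext.mk₀ (ModuleCat.ofHom β)).comp x (zero_add _)) (zero_add _) := by
    rw [Ext.mk₀_comp_mk₀_assoc, ← ModuleCat.ofHom_comp, hαβ,
      show ModuleCat.ofHom (z R n ^ (n - 1) • (LinearMap.id : M →ₗ[Rn R n] M)) =
        z R n ^ (n - 1) • 𝟙 (ModuleCat.of (Rn R n) M) from rfl,
      Ext.mk₀_smul (z R n ^ (n - 1)) (𝟙 (ModuleCat.of (Rn R n) M)), Ext.smul_comp, Ext.mk₀_id_comp]
  rw [key, Ext.eq_zero_of_projective ((Ext.mk₀ (ModuleCat.ofHom β)).comp x (zero_add _)), Ext.comp_zero]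
where
  mem_filt2' {M : Type u} [AddCommGroup M] [Module (Rn R n) M] {i : ℕ} {x : M} :
      x ∈ filt2 R n M i ↔ z R n ^ i • x = 0 := Iff.rfl

theorem zpow_smul_ext_eq_zero_of_two_le (hn : 1 ≤ n) {M N : Type u} [AddCommGroup M] [Module (Rn R n) M]
    [Module.Finite (Rn R n) M] [AddCommGroup N] [Module (Rn R n) N] (i : ℕ)
    (x : Ext (ModuleCat.of (Rn R n) M) (ModuleCat.of (Rn R n) N) (1 + (i + 1))) : z R n ^ (n - 1) • x = 0 := by
  obtain ⟨r, φ, hφ⟩ := exists_cover (R := R) (n := n) M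
  obtain ⟨y, rfl⟩ := comp_of_projective φ hφ (i + 1) x
  haveI := isTorsionFree_pi (R := R) (n := n) r
  haveI : Module.IsTorsionFree R ↥(LinearMap.ker φ) :=
    Function.Injective.moduleIsTorsionFree _ Subtype.val_injective (fun _ _ => rfl)
  rw [← Ext.comp_smul, zpow_smul_ext_eq_zero hn i y, Ext.comp_zero]

end Groth.Agent.MultCrvLib
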