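import Groth.Agent.MultCrvLib.Basic

/-!
# Graded pieces of the two filtrations
-/

universe u v

namespace Groth.Agent.MultCrvLib

open MultCrv

variable {R : Type u} [CommRing R] [IsDomain R] [IsPrincipalIdealRing R] {n : ℕ}
  {M : Type v} [AddCommGroup M] [Module (Rn R n) M] [Module R M] [IsScalarTower R (Rn R n) M]
  [Module.Finite R M]

theorem mem_filt {i : ℕ} {x : M} : x ∈ filt R n M i ↔ ∃ m, z R n ^ i • m = x := by
  constructor
  · rintro ⟨m, rfl⟩; exact ⟨m, rfl⟩
  · rintro ⟨m, rfl⟩; exact ⟨m, rfl⟩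

theorem mem_filt2 {i : ℕ} {x : M} : x ∈ filt2 R n M i ↔ z R n ^ i • x = 0 := Iff.rfl

/-- saturation of `z^(i+1) M` in `z^i M` -/
def SatG1 (M : Type v) [AddCommGroup M] [Module (Rn R n) M] [Module R M] (i : ℕ) : Prop :=
  ∀ (r : R) (m : M), r ≠ 0 → r • (z R n ^ i • m) ∈ filt R n M (i + 1) → z R n ^ i • m ∈ filt R n M (i + 1)

/-- saturation condition for `Γ^(i)` -/
def SatGam2 (M : Type v) [AddCommGroup M] [Module (Rn R n) M] [Module R M] (i : ℕ) : Prop :=
  ∀ (r : R) (u : M), r ≠ 0 → z R n ^ (i + 1) • u = 0 → r • (z R n ^ i • u) ∈ filt R n M (i + 1) →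
    z R n ^ i • u ∈ filt R n M (i + 1)

theorem free_G1_iff (i : ℕ) : Module.Free R (G1 R n M i) ↔ SatG1 (R := R) (n := n) M i := by
  haveI : Module.Finite R (G1 R n M i) :=
    finite_subquot (filt R n M i) (Submodule.comap (filt R n M i).subtype (filt R n M (i + 1)))
  constructor
  · intro h r m hr hm
    have h0 : r • (Submodule.Quotient.mk ⟨z R n ^ i • m, mem_filt.mpr ⟨m, rfl⟩⟩ : G1 R n M i) = 0 := by
      rw [← Submodule.Quotient.mk_smul, Submodule.Quotient.mk_eq_zero, Submodule.mem_comap]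
      exact hm
    have h1 := (smul_eq_zero.mp h0).resolve_left hr
    rw [Submodule.Quotient.mk_eq_zero, Submodule.mem_comap] at h1
    exact h1
  · intro h
    haveI : Module.IsTorsionFree R (G1 R n M i) := by
      refine Module.IsTorsionFree.of_smul_eq_zero fun r x hx => or_iff_not_imp_left.mpr fun hr => ?_
      obtain ⟨⟨y, hy⟩, rfl⟩ := Submodule.Quotient.mk_surjective _ x
      obtain ⟨m, rfl⟩ := mem_filt.mp hy
      rw [← Submodule.Quotient.mk_smul, Submodule.Quotient.mk_eq_zero, Submodule.mem_comap] at hx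
      rw [Submodule.Quotient.mk_eq_zero, Submodule.mem_comap]
      exact h r m hr hx
    exact Module.free_of_finite_type_torsion_free'

theorem mem_range_lamG2 (i : ℕ) {u : M} (hu : u ∈ filt2 R n M (i + 1)) :
    (Submodule.Quotient.mk ⟨u, hu⟩ : G2 R n M (i + 1)) ∈ LinearMap.range (lamG2 R n M i) ↔
      z R n ^ i • u ∈ filt R n M (i + 1) := by
  constructor
  · rintro ⟨v, hv⟩
    obtain ⟨⟨v, hv'⟩, rfl⟩ := Submodule.Quotient.mk_surjective _ v
    rw [lamG2, Submodule.mapQ_apply, Submodule.Quotient.eq, Submodule.mem_comap] at hv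
    have hv2 : z R n ^ i • (z R n • v - u) = 0 := by
      have h3 := mem_filt2.mp hv
      rw [Nat.add_sub_cancel] at h3
      exact h3
    rw [smul_sub, sub_eq_zero, smul_smul, ← pow_succ] at hv2
    exact mem_filt.mpr ⟨v, hv2⟩
  · intro h
    obtain ⟨v, hv⟩ := mem_filt.mp h
    have hv' : v ∈ filt2 R n M (i + 2) := by
      rw [mem_filt2, pow_succ', ← smul_smul, hv, smul_smul, ← pow_succ']
      exact mem_filt2.mp hu
    refine ⟨Submodule.Quotient.mk ⟨v, hv'⟩, ?_⟩
    rw [lamG2, Submodule.mapQ_apply, Submodule.Quotient.eq, Submodule.mem_comap]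
    show z R n • v - u ∈ filt2 R n M (i + 1 - 1)
    rw [mem_filt2, Nat.add_sub_cancel, smul_sub, sub_eq_zero, smul_smul, ← pow_succ]
    exact hv

theorem free_Gam2_iff (i : ℕ) : Module.Free R (Gam2 R n M i) ↔ SatGam2 (R := R) (n := n) M i := by
  haveI : Module.Finite R (G2 R n M (i + 1)) :=
    finite_subquot (filt2 R n M (i + 1)) (Submodule.comap (filt2 R n M (i + 1)).subtype (filt2 R n M (i + 1 - 1)))
  haveI : Module.Finite R (Gam2 R n M i) := Module.Finite.quotient R (LinearMap.range (lamG2 R n M i))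
  constructor
  · intro h r u hr hu hm
    have h0 : r • (Submodule.Quotient.mk (Submodule.Quotient.mk ⟨u, mem_filt2.mpr hu⟩) : Gam2 R n M i) = 0 := by
      rw [← Submodule.Quotient.mk_smul, Submodule.Quotient.mk_eq_zero, ← Submodule.Quotient.mk_smul]
      refine (mem_range_lamG2 i _).mpr ?_
      rw [smul_comm]
      exact hm
    have h1 := (smul_eq_zero.mp h0).resolve_left hr
    rw [Submodule.Quotient.mk_eq_zero] at h1
    exact (mem_range_lamG2 i _).mp h1
  · intro h
    haveI : Module.IsTorsionFree R (Gam2 R n M i) := by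
      refine Module.IsTorsionFree.of_smul_eq_zero fun r x hx => or_iff_not_imp_left.mpr fun hr => ?_
      obtain ⟨x, rfl⟩ := Submodule.Quotient.mk_surjective _ x
      obtain ⟨⟨u, hu⟩, rfl⟩ := Submodule.Quotient.mk_surjective _ x
      rw [← Submodule.Quotient.mk_smul, Submodule.Quotient.mk_eq_zero, ← Submodule.Quotient.mk_smul] at hx
      rw [Submodule.Quotient.mk_eq_zero]
      refine (mem_range_lamG2 i _).mpr (h r u hr (mem_filt2.mp hu) ?_)
      rw [smul_comm]
      exact (mem_range_lamG2 i _).mp hx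
    exact Module.free_of_finite_type_torsion_free'

theorem satG1_of_le {i : ℕ} (h : n ≤ i) : SatG1 (R := R) (n := n) M i := fun _ m _ _ => by
  rw [z_pow_smul_eq_zero h m]; exact zero_mem _

theorem satG1_of_satGam2 {i : ℕ} (hA : SatGam2 (R := R) (n := n) M i) (hP : SatG1 (R := R) (n := n) M (i + 1)) :
    SatG1 (R := R) (n := n) M i := by
  intro r m hr hm
  obtain ⟨w, hw⟩ := mem_filt.mp hm
  have h1 : r • (z R n ^ (i + 1) • m) ∈ filt R n M (i + 1 + 1) := by
    refine mem_filt.mpr ⟨w, ?_⟩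
    rw [pow_succ' _ (i + 1), ← smul_smul, hw, smul_comm, smul_smul, ← pow_succ']
  obtain ⟨w', hw'⟩ := mem_filt.mp (hP r m hr h1)
  have h2 : z R n ^ (i + 1) • (m - z R n • w') = 0 := by
    rw [smul_sub, smul_smul, ← pow_succ, hw', sub_self]
  have h3 : r • (z R n ^ i • (m - z R n • w')) ∈ filt R n M (i + 1) := by
    rw [smul_sub, smul_sub, smul_smul, ← pow_succ, smul_comm r (z R n ^ (i + 1)) w']
    exact sub_mem hm (mem_filt.mpr ⟨r • w', rfl⟩)
  have h4 := hA r _ hr h2 h3
  rw [smul_sub, smul_smul, ← pow_succ] at h4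
  have h5 := add_mem h4 (mem_filt.mpr ⟨w', rfl⟩ : z R n ^ (i + 1) • w' ∈ filt R n M (i + 1))
  rwa [sub_add_cancel] at h5

theorem finrank_G2_eq (i : ℕ) :
    Module.finrank R (G2 R n M (i + 1)) = Module.finrank R (G1 R n M i) := by
  let S : Submodule R M := (filt R n M i ⊓ filt2 R n M 1).restrictScalars R
  let P := filt R n M i
  haveI := finite_sub P
  haveI := finite_sub (filt2 R n M (i + 1))
  let f : ↥P →ₗ[R] M := ((z R n • LinearMap.id) ∘ₗ P.subtype).restrictScalars R
  let g0 : ↥(filt2 R n M (i + 1)) →ₗ[Rn R n] M := (z R n ^ i • LinearMap.id) ∘ₗ (filt2 R n M (i + 1)).subtype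
  have hk : Submodule.comap (filt2 R n M (i + 1)).subtype (filt2 R n M (i + 1 - 1)) = LinearMap.ker g0 := by
    ext u
    rw [Submodule.mem_comap, LinearMap.mem_ker, Nat.add_sub_cancel]
    exact Iff.rfl
  have e1 : Module.finrank R (G2 R n M (i + 1)) = Module.finrank R S := by
    let g : G2 R n M (i + 1) →ₗ[R] M := (Submodule.liftQ _ g0 hk.le).restrictScalars R
    have hg : Function.Injective g := show Function.Injective (Submodule.liftQ _ g0 hk.le) from
      LinearMap.ker_eq_bot.mp (Submodule.ker_liftQ_eq_bot _ g0 hk.le hk.ge)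
    have hS : LinearMap.range g = S := by
      apply le_antisymm
      · rintro _ ⟨x, rfl⟩
        obtain ⟨⟨u, hu⟩, rfl⟩ := Submodule.Quotient.mk_surjective _ x
        refine ⟨mem_filt.mpr ⟨u, rfl⟩, ?_⟩
        show z R n ^ 1 • z R n ^ i • u = 0
        rw [smul_smul, ← pow_add, Nat.add_comm]
        exact mem_filt2.mp hu
      · rintro x ⟨hx, hx2⟩
        obtain ⟨u, rfl⟩ := mem_filt.mp hx
        have hx3 : z R n ^ 1 • z R n ^ i • u = 0 := hx2
        rw [smul_smul, ← pow_add, Nat.add_comm] at hx3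
        exact ⟨Submodule.Quotient.mk ⟨u, mem_filt2.mpr hx3⟩, rfl⟩
    rw [(LinearEquiv.ofInjective g hg).finrank_eq, hS]
  have e2 : Module.finrank R (LinearMap.ker f) = Module.finrank R S := by
    have hS : (LinearMap.ker f).map (P.subtype.restrictScalars R) = S := by
      apply le_antisymm
      · rintro _ ⟨⟨x, hx⟩, hfx, rfl⟩
        refine ⟨hx, ?_⟩
        show z R n ^ 1 • x = 0
        rw [pow_one]; exact hfx
      · rintro x ⟨hx, hx2⟩
        refine ⟨⟨x, hx⟩, ?_, rfl⟩
        have hx3 : z R n ^ 1 • x = 0 := hx2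
        rw [pow_one] at hx3
        exact hx3
    rw [← hS]
    exact (Submodule.equivMapOfInjective (P.subtype.restrictScalars R) Subtype.val_injective (LinearMap.ker f)).finrank_eq
  let B := Submodule.comap P.subtype (filt R n M (i + 1))
  have e3 : Module.finrank R (LinearMap.range f) = Module.finrank R (B.restrictScalars R) := by
    have hB : (B.restrictScalars R).map (P.subtype.restrictScalars R) = LinearMap.range f := by
      apply le_antisymm
      · rintro _ ⟨⟨x, hx⟩, hxB, rfl⟩
        obtain ⟨m, hm⟩ := mem_filt.mp (show x ∈ filt R n M (i + 1) from hxB)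
        refine ⟨⟨z R n ^ i • m, mem_filt.mpr ⟨m, rfl⟩⟩, ?_⟩
        show z R n • z R n ^ i • m = x
        rw [smul_smul, ← pow_succ']; exact hm
      · rintro _ ⟨⟨x, hx⟩, rfl⟩
        obtain ⟨m, rfl⟩ := mem_filt.mp hx
        have hz : z R n • z R n ^ i • m ∈ filt R n M (i + 1) :=
          mem_filt.mpr ⟨m, by rw [smul_smul, ← pow_succ']⟩
        exact ⟨⟨z R n • z R n ^ i • m, P.smul_mem _ (mem_filt.mpr ⟨m, rfl⟩)⟩, hz, rfl⟩
    rw [← hB]
    exact (Submodule.equivMapOfInjective (P.subtype.restrictScalars R) Subtype.val_injective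
      (B.restrictScalars R)).finrank_eq.symm
  have e4 : Module.finrank R (↥P ⧸ B) + Module.finrank R (B.restrictScalars R) = Module.finrank R ↥P := by
    rw [← (Submodule.Quotient.restrictScalarsEquiv R B).finrank_eq]
    exact Submodule.finrank_quotient_add_finrank _
  have e5 : Module.finrank R (LinearMap.range f) + Module.finrank R (LinearMap.ker f) = Module.finrank R ↥P := by
    rw [← f.quotKerEquivRange.finrank_eq]
    exact Submodule.finrank_quotient_add_finrank _
  change Module.finrank R (G2 R n M (i + 1)) = Module.finrank R (↥P ⧸ B)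
  omega

end Groth.Agent.MultCrvLib
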