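import Groth.Agent.MultCrvLib.Basic

/-!
# Minimal covers of quasi-free modules
-/

universe u v

namespace Groth.Agent.MultCrvLib

open MultCrv

variable {R : Type u} [CommRing R] {n : ℕ}

theorem zpow_mul_mem {a j : ℕ} (h : n ≤ a + j) {x : Rn R n} (hx : x ∈ Ideal.span {z R n ^ j}) :
    z R n ^ a * x = 0 := by
  obtain ⟨y, rfl⟩ := Ideal.mem_span_singleton.mp hx
  rw [← mul_assoc, ← pow_add, z_pow_eq_zero h, zero_mul]

theorem mem_of_zpow_mul {a j : ℕ} (h : a + j ≤ n) {x : Rn R n} (hx : z R n ^ a * x = 0) :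
    x ∈ Ideal.span {z R n ^ j} := by
  obtain ⟨p, rfl⟩ := Ideal.Quotient.mk_surjective x
  rw [z_pow, ← map_mul, Ideal.Quotient.eq_zero_iff_dvd, Polynomial.X_pow_dvd_iff] at hx
  have hp : (Polynomial.X : Polynomial R) ^ j ∣ p := by
    rw [Polynomial.X_pow_dvd_iff]
    intro d hd
    have h1 := hx (d + a) (by omega)
    rwa [Polynomial.coeff_X_pow_mul] at h1
  obtain ⟨q, rfl⟩ := hp
  rw [map_mul, ← z_pow]
  exact Ideal.mul_mem_right _ _ (Ideal.mem_span_singleton_self _)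

/-- multiplication by `z^a` on `Rn/(z^j)`, zero if not well defined -/
noncomputable def La (a j : ℕ) : Oi R n j →ₗ[Rn R n] Rn R n :=
  if h : n ≤ a + j then Submodule.liftQ _ (LinearMap.mulLeft (Rn R n) (z R n ^ a))
    (fun _ hx => zpow_mul_mem h hx) else 0

theorem La_mk {a j : ℕ} (h : n ≤ a + j) (x : Rn R n) :
    La (R := R) (n := n) a j (Ideal.Quotient.mk _ x) = z R n ^ a * x := by
  rw [La, dif_pos h]; rfl

theorem La_eq_zero {a j : ℕ} (h : a + j = n) {x : Oi R n j} (hx : La a j x = 0) : x = 0 := by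
  obtain ⟨x, rfl⟩ := Ideal.Quotient.mk_surjective x
  rw [La_mk h.ge] at hx
  exact Ideal.Quotient.eq_zero_iff_mem.mpr (mem_of_zpow_mul h.le hx)

variable (m : Fin n → ℕ)

/-- the standard cover of the model -/
noncomputable def cover : ((Σ i : Fin n, Fin (m i)) → Rn R n) →ₗ[Rn R n] ((i : Fin n) → (Fin (m i) → Oi R n (i.1 + 1))) :=
  LinearMap.pi fun i => LinearMap.pi fun k => (Submodule.mkQ _) ∘ₗ LinearMap.proj (⟨i, k⟩ : Σ i : Fin n, Fin (m i))

theorem cover_apply (f : (Σ i : Fin n, Fin (m i)) → Rn R n) (i : Fin n) (k : Fin (m i)) :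
    cover (R := R) m f i k = Ideal.Quotient.mk _ (f ⟨i, k⟩) := rfl

theorem cover_surjective : Function.Surjective (cover (R := R) m) := fun x =>
  ⟨fun p => Function.surjInv Ideal.Quotient.mk_surjective (x p.1 p.2),
    funext fun i => funext fun k => Function.surjInv_eq Ideal.Quotient.mk_surjective (x i k)⟩

theorem cover_minimal (f : (Σ i : Fin n, Fin (m i)) → Rn R n)
    (hf : ∃ y, z R n ^ 1 • y = cover (R := R) m f) :
    f ∈ filt R n ((Σ i : Fin n, Fin (m i)) → Rn R n) 1 := by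
  obtain ⟨y, hy⟩ := hf
  obtain ⟨g, rfl⟩ := cover_surjective (R := R) m y
  have h : ∀ p, ∃ w, f p = z R n ^ 1 * w := by
    rintro ⟨i, k⟩
    have h1 : Ideal.Quotient.mk (Ideal.span {z R n ^ (i.1 + 1)}) (z R n ^ 1 * g ⟨i, k⟩ - f ⟨i, k⟩) = 0 := by
      rw [map_sub, sub_eq_zero]
      exact congrFun (congrFun hy i) k
    rw [Ideal.Quotient.eq_zero_iff_mem, Ideal.mem_span_singleton] at h1
    obtain ⟨w, hw⟩ := h1
    refine ⟨g ⟨i, k⟩ - z R n ^ i.1 * w, ?_⟩
    rw [pow_succ'] at hw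
    linear_combination -hw
  choose w hw using h
  exact ⟨w, funext fun p => (hw p).symm⟩

theorem revType_eq {i : Fin n} (h : i.1 + 1 < n) :
    revType n m (⟨n - 2 - i.1, by omega⟩ : Fin n) = m i := by
  rw [revType, dif_pos (by show n - 2 - i.1 + 1 < n; omega)]
  congr 1
  apply Fin.ext
  show n - 2 - (n - 2 - i.1) = i.1
  omega

theorem lt_of_fin_revType {i : Fin n} (k : Fin (revType n m i)) : i.1 + 1 < n := by
  by_contra h
  have h0 : revType n m i = 0 := dif_neg h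
  exact Fin.elim0 (Fin.cast h0 k)

/-- kernel parametrisation -/
noncomputable def kerMap : ((i : Fin n) → (Fin (revType n m i) → Oi R n (i.1 + 1))) →ₗ[Rn R n]
    ((Σ i : Fin n, Fin (m i)) → Rn R n) :=
  LinearMap.pi fun p => if h : p.1.1 + 1 < n then
    La (p.1.1 + 1) (n - 2 - p.1.1 + 1) ∘ₗ LinearMap.proj (Fin.cast (revType_eq m h).symm p.2) ∘ₗ
      LinearMap.proj (⟨n - 2 - p.1.1, by omega⟩ : Fin n) else 0

theorem kerMap_apply (g : (i : Fin n) → (Fin (revType n m i) → Oi R n (i.1 + 1))) (p : Σ i : Fin n, Fin (m i))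
    (h : p.1.1 + 1 < n) :
    kerMap (R := R) m g p = La (p.1.1 + 1) (n - 2 - p.1.1 + 1)
      (g ⟨n - 2 - p.1.1, by omega⟩ (Fin.cast (revType_eq m h).symm p.2)) := by
  rw [kerMap, LinearMap.pi_apply, dif_pos h]
  rfl

theorem kerMap_apply_top (g : (i : Fin n) → (Fin (revType n m i) → Oi R n (i.1 + 1))) (p : Σ i : Fin n, Fin (m i))
    (h : ¬ p.1.1 + 1 < n) : kerMap (R := R) m g p = 0 := by
  rw [kerMap, LinearMap.pi_apply, dif_neg h, LinearMap.zero_apply]

theorem kerMap_injective : Function.Injective (kerMap (R := R) m) := by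
  rw [injective_iff_map_eq_zero]
  intro g hg
  refine funext fun i => funext fun k => ?_
  have hi := lt_of_fin_revType m k
  have hm : revType n m i = m ⟨n - 2 - i.1, by omega⟩ := by rw [revType, dif_pos hi]
  let p : Σ j : Fin n, Fin (m j) := ⟨⟨n - 2 - i.1, by omega⟩, Fin.cast hm k⟩
  have hp : p.1.1 + 1 < n := by show n - 2 - i.1 + 1 < n; omega
  have h1 : La (p.1.1 + 1) (n - 2 - p.1.1 + 1)
      (g ⟨n - 2 - p.1.1, by omega⟩ (Fin.cast (revType_eq m hp).symm p.2)) = 0 := by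
    rw [← kerMap_apply m g p hp, hg]; rfl
  have h2 := La_eq_zero (by show n - 2 - i.1 + 1 + (n - 2 - (n - 2 - i.1) + 1) = n; omega) h1
  have hs : (⟨⟨n - 2 - p.1.1, by omega⟩, Fin.cast (revType_eq m hp).symm p.2⟩ : Σ j : Fin n, Fin (revType n m j)) =
      ⟨i, k⟩ := by
    refine Sigma.ext (Fin.ext (by show n - 2 - (n - 2 - i.1) = i.1; omega)) ?_
    exact (Fin.heq_ext_iff (by congr 1; apply Fin.ext; show n - 2 - (n - 2 - i.1) = i.1; omega)).mpr rfl
  exact (hs ▸ h2 : (fun q : Σ j : Fin n, Fin (revType n m j) => g q.1 q.2 = 0) ⟨i, k⟩)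

theorem range_kerMap : LinearMap.range (kerMap (R := R) m) = LinearMap.ker (cover (R := R) m) := by
  apply le_antisymm
  · rintro _ ⟨g, rfl⟩
    rw [LinearMap.mem_ker]
    refine funext fun i => funext fun k => ?_
    rw [cover_apply]
    by_cases h : i.1 + 1 < n
    · rw [kerMap_apply m g ⟨i, k⟩ h]
      obtain ⟨y, hy⟩ := Ideal.Quotient.mk_surjective (g ⟨n - 2 - i.1, by omega⟩ (Fin.cast (revType_eq m h).symm k))
      rw [← hy, La_mk (by show n ≤ i.1 + 1 + (n - 2 - i.1 + 1); omega)]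
      exact Ideal.Quotient.eq_zero_iff_mem.mpr (Ideal.mul_mem_right _ _ (Ideal.mem_span_singleton_self _))
    · rw [kerMap_apply_top m g ⟨i, k⟩ h, map_zero]; rfl
  · intro f hf
    have hf' : ∀ p : Σ i : Fin n, Fin (m i), ∃ y, f p = z R n ^ (p.1.1 + 1) * y := fun p => by
      have h1 := congrFun (congrFun (LinearMap.mem_ker.mp hf) p.1) p.2
      rw [cover_apply] at h1
      exact Ideal.mem_span_singleton.mp (Ideal.Quotient.eq_zero_iff_mem.mp h1)
    choose y hy using hf'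
    refine ⟨fun i k => Ideal.Quotient.mk _ (y ⟨⟨n - 2 - i.1, by have := i.2; omega⟩,
      Fin.cast (by rw [revType, dif_pos (lt_of_fin_revType m k)]) k⟩), funext fun p => ?_⟩
    by_cases h : p.1.1 + 1 < n
    · rw [kerMap_apply m _ p h, La_mk (by omega), hy p]
      congr 2
      refine Sigma.ext (Fin.ext (by show n - 2 - (n - 2 - p.1.1) = p.1.1; omega)) ?_
      exact (Fin.heq_ext_iff (by congr 1; apply Fin.ext; show n - 2 - (n - 2 - p.1.1) = p.1.1; omega)).mpr rfl
    · rw [kerMap_apply_top m _ p h, hy p, z_pow_eq_zero (R := R) (j := p.1.1 + 1) (by omega), zero_mul]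

theorem surjective_of_id_mod_z {F : Type v} [AddCommGroup F] [Module (Rn R n) F] (θ : F →ₗ[Rn R n] F)
    (h : ∀ f, θ f - f ∈ filt R n F 1) : Function.Surjective θ := by
  have key : ∀ (k : ℕ) (x : F), ∃ a w, x = θ a + z R n ^ k • w := by
    intro k
    induction k with
    | zero => exact fun x => ⟨0, x, by rw [map_zero, zero_add, pow_zero, one_smul]⟩
    | succ k ih =>
      intro x
      obtain ⟨a, w, rfl⟩ := ih x
      obtain ⟨w', hw'⟩ := h w
      simp only [LinearMap.smul_apply, LinearMap.id_apply, pow_one] at hw'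
      refine ⟨a + z R n ^ k • w, -w', ?_⟩
      rw [map_add, map_smul, pow_succ, ← smul_smul, smul_neg, hw', smul_neg, smul_sub]
      abel
  intro x
  obtain ⟨a, w, rfl⟩ := key n x
  exact ⟨a, by rw [z_pow_smul_eq_zero le_rfl w, add_zero]⟩

theorem ker_equiv {Q F F₀ : Type*} [AddCommGroup Q] [Module (Rn R n) Q] [AddCommGroup F] [Module (Rn R n) F]
    [AddCommGroup F₀] [Module (Rn R n) F₀] [Module.Finite (Rn R n) F] [Module.Finite (Rn R n) F₀]
    [Module.Projective (Rn R n) F] [Module.Projective (Rn R n) F₀]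
    (φ : F →ₗ[Rn R n] Q) (ψ : F₀ →ₗ[Rn R n] Q) (hφ : Function.Surjective φ) (hψ : Function.Surjective ψ)
    (hφz : ∀ f, (∃ y, z R n ^ 1 • y = φ f) → f ∈ filt R n F 1)
    (hψz : ∀ f, (∃ y, z R n ^ 1 • y = ψ f) → f ∈ filt R n F₀ 1) :
    Nonempty (LinearMap.ker φ ≃ₗ[Rn R n] LinearMap.ker ψ) := by
  obtain ⟨θ, hθ⟩ := Module.projective_lifting_property ψ φ hψ
  obtain ⟨θ', hθ'⟩ := Module.projective_lifting_property φ ψ hφ
  have hθf : ∀ f, ψ (θ f) = φ f := fun f => LinearMap.congr_fun hθ f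
  have hθf' : ∀ f, φ (θ' f) = ψ f := fun f => LinearMap.congr_fun hθ' f
  have h1 : Function.Surjective (θ' ∘ₗ θ) := surjective_of_id_mod_z _ fun f => hφz _ ⟨0, by
    rw [smul_zero, map_sub, LinearMap.comp_apply, hθf', hθf, sub_self]⟩
  have h2 : Function.Surjective (θ ∘ₗ θ') := surjective_of_id_mod_z _ fun f => hψz _ ⟨0, by
    rw [smul_zero, map_sub, LinearMap.comp_apply, hθf, hθf', sub_self]⟩
  have hinj : Function.Injective θ := by
    have := OrzechProperty.injective_of_surjective_endomorphism (θ' ∘ₗ θ) h1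
    exact Function.Injective.of_comp (f := θ') this
  have hsurj : Function.Surjective θ := Function.Surjective.of_comp h2
  let e := LinearEquiv.ofBijective θ ⟨hinj, hsurj⟩
  refine ⟨(e.submoduleMap (LinearMap.ker φ)).trans (LinearEquiv.ofEq _ _ ?_)⟩
  ext x
  constructor
  · rintro ⟨f, hf, rfl⟩
    exact LinearMap.mem_ker.mpr ((hθf f).trans hf)
  · intro hx
    obtain ⟨f, rfl⟩ := hsurj x
    exact ⟨f, (hθf f).symm.trans hx, rfl⟩

end Groth.Agent.MultCrvLib
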